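import Mathlib

set_option autoImplicit false
universe u

open Polynomial

namespace Groth.Agent.WDivLead

/-- A prime of height one of a domain has no nonzero prime strictly below it. -/
lemma eq_of_le_of_height_one {R : Type u} [CommRing R] [IsDomain R] {P Q : Ideal R} [P.IsPrime] [Q.IsPrime]
    (hP : P.height = 1) (hQ : Q ≠ ⊥) (hle : Q ≤ P) : Q = P := by
  by_contra hne
  have h2 := Ideal.height_add_one_le_of_lt_of_isPrime (lt_of_le_of_ne hle hne)
  rw [hP] at h2
  refine hQ (Ideal.height_eq_zero_iff_eq_bot.1 ?_)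
  generalize Q.height = n at h2 ⊢
  induction n using ENat.recTopCoe with
  | top => simp at h2
  | coe a => norm_cast at h2 ⊢; omega

lemma dvr_of_gen {B : Type u} [CommRing B] [IsDomain B] [IsNoetherianRing B] (P : Ideal B) [P.IsPrime]
    (hP : P ≠ ⊥) (a : B) (ha : a ∈ P) (h : ∀ g ∈ P, ∃ s ∉ P, a ∣ s * g) :
    IsDiscreteValuationRing (Localization.AtPrime P) := by
  have hnf : ¬ IsField (Localization.AtPrime P) := IsLocalization.AtPrime.not_isField B hP _
  refine ((IsDiscreteValuationRing.TFAE (Localization.AtPrime P) hnf).out 4 0).1 ?_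
  refine ⟨⟨algebraMap B _ a, le_antisymm ?_ ?_⟩⟩
  · rw [← Localization.AtPrime.map_eq_maximalIdeal, Ideal.map_le_iff_le_comap]
    intro g hg
    obtain ⟨s, hs, t, ht⟩ := h g hg
    rw [Ideal.mem_comap, Submodule.mem_span_singleton]
    refine ⟨IsLocalization.mk' (Localization.AtPrime P) t (⟨s, hs⟩ : P.primeCompl), ?_⟩
    rw [smul_eq_mul, mul_comm, IsLocalization.mul_mk'_eq_mk'_of_mul, IsLocalization.mk'_eq_iff_eq_mul, ← map_mul, ← ht, mul_comm]
  · rw [Ideal.submodule_span_eq, Ideal.span_singleton_le_iff_mem]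
    rw [← Localization.AtPrime.map_eq_maximalIdeal]
    exact Ideal.mem_map_of_mem _ ha

theorem r1_polynomial (A : Type u) [CommRing A] [IsDomain A] [IsNoetherianRing A]
    (hR1 : ∀ (p : Ideal A) [p.IsPrime], p.height = 1 → IsDiscreteValuationRing (Localization.AtPrime p))
    (P : Ideal A[X]) [P.IsPrime] (hP : P.height = 1) :
    IsDiscreteValuationRing (Localization.AtPrime P) := by
  classical
  have hP0 : P ≠ ⊥ := fun h => by simp [h, Ideal.height_bot] at hP
  by_cases hp : P.comap C = ⊥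
  · -- generic case
    have hC : ∀ c : A, c ≠ 0 → C c ∉ P := fun c hc h => hc (by
      have : c ∈ P.comap C := h
      rwa [hp, Ideal.mem_bot] at this)
    have hex : ∃ d, ∃ f ∈ P, f ≠ 0 ∧ f.natDegree = d := by
      obtain ⟨f, hf, hf0⟩ := (Submodule.ne_bot_iff _).1 hP0
      exact ⟨_, f, hf, hf0, rfl⟩
    obtain ⟨f, hf, hf0, hfd⟩ := Nat.find_spec hex
    refine dvr_of_gen P hP0 f hf fun g hg => ?_
    suffices H : ∀ n, ∀ g ∈ P, g.natDegree ≤ n → ∃ c : A, c ≠ 0 ∧ f ∣ C c * g by
      obtain ⟨c, hc, h⟩ := H _ g hg le_rfl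
      exact ⟨C c, hC c hc, h⟩
    intro n
    induction n using Nat.strong_induction_on with
    | _ n ih =>
      intro g hg hn
      by_cases hg0 : g = 0
      · exact ⟨1, one_ne_zero, by simp [hg0]⟩
      have hde : f.natDegree ≤ g.natDegree := hfd ▸ Nat.find_min' hex ⟨g, hg, hg0, rfl⟩
      obtain ⟨q, hq⟩ : ∃ q, q = C g.leadingCoeff * X ^ (g.natDegree - f.natDegree) := ⟨_, rfl⟩
      obtain ⟨g', hg'⟩ : ∃ g', g' = C f.leadingCoeff * g - q * f := ⟨_, rfl⟩
      have hmem : g' ∈ P := hg' ▸ P.sub_mem (P.mul_mem_left _ hg) (P.mul_mem_left _ hf)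
      have hlf : f.leadingCoeff ≠ 0 := leadingCoeff_ne_zero.2 hf0
      by_cases hg'0 : g' = 0
      · exact ⟨f.leadingCoeff, hlf, q, by rw [hg', sub_eq_zero] at hg'0; rw [hg'0, mul_comm]⟩
      have hlt : g'.natDegree < g.natDegree := by
        have hle : g'.natDegree ≤ g.natDegree := by
          rw [hg', hq]
          refine (natDegree_sub_le _ _).trans (max_le (natDegree_C_mul_le _ _) ?_)
          refine natDegree_mul_le.trans ?_
          have := natDegree_C_mul_X_pow_le g.leadingCoeff (g.natDegree - f.natDegree)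
          omega
        refine lt_of_le_of_ne hle fun e => hg'0 ?_
        rw [← leadingCoeff_eq_zero, leadingCoeff, e, hg', coeff_sub, coeff_C_mul, hq, mul_assoc, coeff_C_mul,
          coeff_X_pow_mul', if_pos (Nat.sub_le _ _), Nat.sub_sub_self hde, coeff_natDegree, coeff_natDegree, mul_comm, sub_self]
      obtain ⟨c, hc, hdvd⟩ := ih g'.natDegree (lt_of_lt_of_le hlt hn) g' hmem le_rfl
      refine ⟨c * f.leadingCoeff, mul_ne_zero hc hlf, ?_⟩
      have : C (c * f.leadingCoeff) * g = C c * g' + C c * q * f := by rw [hg', C_mul]; ring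
      rw [this]
      exact dvd_add hdvd (dvd_mul_left _ _)
  · -- vertical case
    obtain ⟨p, hpdef⟩ : ∃ p, p = P.comap C := ⟨_, rfl⟩
    haveI : p.IsPrime := hpdef ▸ inferInstance
    rw [← hpdef] at hp
    haveI := Ideal.isPrime_map_C_of_isPrime (P := p)
    have hmapC : (p.map C : Ideal A[X]) ≠ ⊥ := by
      rw [Ne, Ideal.map_eq_bot_iff_of_injective C_injective]; exact hp
    have hPeq : p.map C = P :=
      eq_of_le_of_height_one hP hmapC (Ideal.map_le_iff_le_comap.2 (hpdef ▸ le_rfl))
    have hht : p.height = 1 := by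
      refine le_antisymm ?_ (Order.one_le_iff_ne_zero.2 fun h => hp (Ideal.height_eq_zero_iff_eq_bot.1 h))
      by_contra hlt
      push Not at hlt
      rw [show p.height = Order.height (⟨p, inferInstance⟩ : PrimeSpectrum A) from PrimeSpectrum.height_eq_orderHeight ⟨p, inferInstance⟩] at hlt
      obtain ⟨q, hq0, hqp⟩ : ∃ q : PrimeSpectrum A, q.asIdeal ≠ ⊥ ∧ q < ⟨p, inferInstance⟩ := by
        have h1 : (1 : ℕ∞) < Order.height (⟨p, inferInstance⟩ : PrimeSpectrum A) := hlt
        obtain ⟨s, hs, hsl⟩ := Order.exists_series_of_le_height (⟨p, inferInstance⟩ : PrimeSpectrum A)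
          (show ((2 : ℕ) : ℕ∞) ≤ _ from Order.add_one_le_of_lt h1)
        refine ⟨s ⟨1, by omega⟩, ?_, ?_⟩
        · intro h
          have := s.strictMono (show (⟨0, by omega⟩ : Fin (s.length + 1)) < ⟨1, by omega⟩ from Fin.mk_lt_mk.2 Nat.zero_lt_one)
          have h' : (s ⟨0, by omega⟩).asIdeal < (s ⟨1, by omega⟩).asIdeal := this
          rw [h] at h'
          exact not_lt_bot h'
        · rw [← hs]
          exact s.strictMono (Fin.mk_lt_mk.2 (by simp [hsl]))
      haveI := q.isPrime
      haveI := Ideal.isPrime_map_C_of_isPrime (P := q.asIdeal)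
      have hqle : q.asIdeal.map C ≤ P := hPeq ▸ Ideal.map_mono (le_of_lt hqp)
      have := eq_of_le_of_height_one hP (by rw [Ne, Ideal.map_eq_bot_iff_of_injective C_injective]; exact hq0) hqle
      apply hqp.ne
      ext1
      refine le_antisymm (le_of_lt hqp) fun c hc => ?_
      have h3 : C c ∈ q.asIdeal.map C := by rw [this, ← hPeq]; exact Ideal.mem_map_of_mem _ hc
      simpa using (Ideal.mem_map_C_iff.1 h3) 0
    haveI := hR1 p hht
    obtain ⟨π, hπ⟩ := IsDiscreteValuationRing.exists_irreducible (Localization.AtPrime p)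
    obtain ⟨a, s, hπa⟩ := IsLocalization.exists_mk'_eq p.primeCompl π
    have hmax := hπ.maximalIdeal_eq
    have hap : a ∈ p := by
      rw [← Localization.AtPrime.comap_maximalIdeal (I := p), Ideal.mem_comap, ← IsLocalization.mk'_spec' (Localization.AtPrime p) a s]
      exact Ideal.mul_mem_left _ _ (by rw [hmax, hπa]; exact Ideal.mem_span_singleton_self _)
    have key : ∀ c ∈ p, ∃ t ∉ p, a ∣ t * c := by
      intro c hc
      have h1 : algebraMap A (Localization.AtPrime p) c ∈ IsLocalRing.maximalIdeal _ :=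
        Localization.AtPrime.map_eq_maximalIdeal (I := p) ▸ Ideal.mem_map_of_mem _ hc
      rw [hmax, Ideal.mem_span_singleton] at h1
      obtain ⟨w, hw⟩ := h1
      obtain ⟨b, t, hwb⟩ := IsLocalization.exists_mk'_eq p.primeCompl w
      rw [← hπa, ← hwb, ← IsLocalization.mk'_mul, ← IsLocalization.mk'_one (M := p.primeCompl) (Localization.AtPrime p) c,
        IsLocalization.mk'_eq_iff_eq, IsLocalization.eq_iff_exists p.primeCompl] at hw
      obtain ⟨r, hr⟩ := hw
      refine ⟨(r : A) * ((s * t : p.primeCompl) : A), (r * (s * t) : p.primeCompl).2, (r : A) * b, ?_⟩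
      simp only [Submonoid.coe_one, one_mul] at hr
      rw [mul_assoc, hr]; ring
    refine dvr_of_gen P hP0 (C a) (hPeq ▸ Ideal.mem_map_of_mem _ hap) fun g hg => ?_
    rw [← hPeq, Ideal.mem_map_C_iff] at hg
    choose t ht hdvd using fun n => key (g.coeff n) (hg n)
    refine ⟨C (∏ n ∈ g.support, t n), fun hT => ?_, C_dvd_iff_dvd_coeff _ _ |>.2 fun n => ?_⟩
    · have hT' : (∏ n ∈ g.support, t n) ∈ p := hpdef ▸ hT
      obtain ⟨n, -, hn⟩ := (Ideal.IsPrime.prod_mem_iff).1 hT'
      exact ht n hn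
    · rw [coeff_C_mul]
      by_cases hn : n ∈ g.support
      · obtain ⟨u, hu⟩ := Finset.dvd_prod_of_mem t hn
        rw [hu, mul_right_comm]
        exact dvd_mul_of_dvd_left (hdvd n) _
      · rw [Polynomial.notMem_support_iff.1 hn, mul_zero]
        exact dvd_zero _

end Groth.Agent.WDivLead
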